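import Mathlib
import Cfsg.Agent.Lib.PGroups.Frattini

/-!
Burnside: counting generating tuples of a finite p-group and automorphisms.
-/

set_option autoImplicit false

namespace CfsgLib.NormalComplements.AutCount

open Finset

variable {P : Type*} [Group P] [Finite P] {p n r : ℕ} [Fact p.Prime]

/-- the subgroup generated by a tuple together with the Frattini subgroup -/
def spanT {j : ℕ} (t : Fin j → P) : Subgroup P := Subgroup.closure (Set.range t) ⊔ frattini P

/-- tuples independent modulo the Frattini subgroup -/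
def Indep (p : ℕ) {j : ℕ} (t : Fin j → P) : Prop :=
  Nat.card (spanT t) = p ^ j * Nat.card (frattini P)

theorem spanT_snoc {j : ℕ} (t : Fin j → P) (x : P) :
    spanT (Fin.snoc t x : Fin (j + 1) → P) = spanT t ⊔ Subgroup.zpowers x := by
  apply le_antisymm
  · refine sup_le ((Subgroup.closure_le _).mpr ?_) (le_sup_of_le_left le_sup_right)
    rintro _ ⟨i, rfl⟩
    induction i using Fin.lastCases with
    | last => rw [Fin.snoc_last]; exact Subgroup.mem_sup_right (Subgroup.mem_zpowers x)
    | cast i =>
      rw [Fin.snoc_castSucc]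
      exact Subgroup.mem_sup_left (Subgroup.mem_sup_left (Subgroup.subset_closure ⟨i, rfl⟩))
  · refine sup_le (sup_le ?_ le_sup_right) ?_
    · refine le_sup_of_le_left ((Subgroup.closure_le _).mpr ?_)
      rintro _ ⟨i, rfl⟩
      exact Subgroup.subset_closure ⟨i.castSucc, Fin.snoc_castSucc _ _ _⟩
    · rw [Subgroup.zpowers_le]
      exact Subgroup.mem_sup_left (Subgroup.subset_closure ⟨Fin.last j, Fin.snoc_last _ _⟩)

open scoped Classical in
/-- adding one element multiplies the order by `1` or `p`. -/
theorem card_sup_zpowers (hG : IsPGroup p P) {N : Subgroup P} (hN : frattini P ≤ N) (x : P) :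
    Nat.card (N ⊔ Subgroup.zpowers x : Subgroup P) =
      (if x ∈ N then 1 else p) * Nat.card N := by
  classical

  split_ifs with hx
  · rw [one_mul, sup_eq_left.mpr (Subgroup.zpowers_le.mpr hx)]
  · have hcN := (CfsgLib.PGroups.frattini_le_iff hG).1 hN
    haveI hNn : N.Normal := Subgroup.commutator_top_right_le_iff.1
      ((Subgroup.commutator_mono le_top le_rfl).trans hcN.1)
    have hcard : orderOf (QuotientGroup.mk' N x) = p :=
      orderOf_eq_prime (by rw [← map_pow]; exact (QuotientGroup.eq_one_iff _).2 (hcN.2 x))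
        fun h => hx ((QuotientGroup.eq_one_iff _).1 h)
    rw [← Nat.card_zpowers, ← MonoidHom.map_zpowers,
      ← Subgroup.relIndex_bot_left, ← Subgroup.relIndex_comap, MonoidHom.comap_bot,
      QuotientGroup.ker_mk', ← Subgroup.relIndex_sup_right, sup_comm] at hcard
    have := Subgroup.card_mul_index (N.subgroupOf (N ⊔ Subgroup.zpowers x))
    rw [Nat.card_congr (Subgroup.subgroupOfEquivOfLe (le_sup_left : N ≤ N ⊔ Subgroup.zpowers x)).toEquiv,
      show (N.subgroupOf (N ⊔ Subgroup.zpowers x)).index = p from hcard] at this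
    rw [← this, mul_comm]

theorem card_span_le (hG : IsPGroup p P) {j : ℕ} (t : Fin j → P) :
    Nat.card (spanT t) ≤ p ^ j * Nat.card (frattini P) := by
  induction j with
  | zero => simp [spanT, Set.range_eq_empty]
  | succ j ih =>
    obtain ⟨s, x, rfl⟩ : ∃ s x, t = Fin.snoc s x := ⟨Fin.init t, t (Fin.last j), (Fin.snoc_init_self t).symm⟩
    rw [spanT_snoc]
    classical
    have := (card_sup_zpowers hG (N := spanT s) le_sup_right x)
    rw [this, pow_succ']
    have h1 : (if x ∈ spanT s then 1 else p) ≤ p := by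
      split_ifs
      · exact (Fact.out : p.Prime).one_le
      · exact le_rfl
    calc _ ≤ p * (p ^ j * Nat.card (frattini P)) := Nat.mul_le_mul h1 (ih s)
      _ = _ := (mul_assoc _ _ _).symm

theorem indep_snoc (hG : IsPGroup p P) {j : ℕ} (t : Fin j → P) (x : P) :
    Indep p (Fin.snoc t x : Fin (j + 1) → P) ↔ Indep p t ∧ x ∉ spanT t := by
  classical
  have hp1 : 1 < p := (Fact.out : p.Prime).one_lt
  have hF : 0 < Nat.card (frattini P) := Nat.card_pos
  have hle := card_span_le hG t
  have h := (card_sup_zpowers hG (N := spanT t) le_sup_right x)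
  unfold Indep
  rw [spanT_snoc, h, pow_succ', mul_assoc]
  set B := p ^ j * Nat.card (frattini P) with hB
  have hBpos : 0 < B := by positivity
  by_cases hx : x ∈ spanT t
  · rw [if_pos hx]
    simp only [hx, not_true_eq_false, and_false, iff_false, one_mul]
    intro e
    nlinarith
  · rw [if_neg hx]
    simp only [hx, not_false_eq_true, and_true]
    exact Nat.mul_left_cancel_iff (by omega)

theorem card_frattini (hP : Nat.card P = p ^ n) (hr : (frattini P).index = p ^ r) :
    r ≤ n ∧ Nat.card (frattini P) = p ^ (n - r) := by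
  have h := Subgroup.card_mul_index (frattini P)
  rw [hr, hP] at h
  have hrn : r ≤ n := (Nat.pow_dvd_pow_iff_le_right (Fact.out : p.Prime).one_lt).mp ⟨_, by rw [mul_comm]; exact h.symm⟩
  refine ⟨hrn, Nat.eq_of_mul_eq_mul_right (pow_pos (Fact.out : p.Prime).pos r) ?_⟩
  rw [h, ← pow_add, Nat.sub_add_cancel hrn]

theorem card_indep (hP : Nat.card P = p ^ n) (hr : (frattini P).index = p ^ r) :
    ∀ j, j ≤ r → Nat.card {t : Fin j → P // Indep p t} =
      p ^ ((n - r) * j) * ∏ i ∈ range j, (p ^ r - p ^ i) := by
  classical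
  have hG : IsPGroup p P := IsPGroup.of_card hP
  obtain ⟨hrn, hF⟩ := card_frattini hP hr
  cases nonempty_fintype P
  intro j
  induction j with
  | zero =>
    intro _
    have : Unique {t : Fin 0 → P // Indep p t} :=
      { default := ⟨Fin.elim0, by simp [Indep, spanT, Set.range_eq_empty]⟩
        uniq := fun a => Subtype.ext (funext fun i => i.elim0) }
    simp
  | succ j ih =>
    intro hj
    let e : {t : Fin (j + 1) → P // Indep p t} ≃ (t : {t : Fin j → P // Indep p t}) × {x : P // x ∉ spanT t.1} :=
      { toFun := fun t => ⟨⟨Fin.init t.1, ((indep_snoc hG _ _).mp (show Indep p (Fin.snoc (Fin.init t.1) (t.1 (Fin.last j)) : Fin (j+1) → P) by rw [Fin.snoc_init_self]; exact t.2)).1⟩,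
          t.1 (Fin.last j), ((indep_snoc hG _ _).mp (show Indep p (Fin.snoc (Fin.init t.1) (t.1 (Fin.last j)) : Fin (j+1) → P) by rw [Fin.snoc_init_self]; exact t.2)).2⟩
        invFun := fun q => ⟨Fin.snoc q.1.1 q.2.1, (indep_snoc hG _ _).mpr ⟨q.1.2, q.2.2⟩⟩
        left_inv := fun t => Subtype.ext (Fin.snoc_init_self t.1)
        right_inv := by
          rintro ⟨⟨t, ht⟩, ⟨x, hx⟩⟩
          have h1 : (Fin.init (Fin.snoc t x : Fin (j+1) → P) : Fin j → P) = t := Fin.init_snoc (α := fun _ => P) _ _
          have h2 : (Fin.snoc t x : Fin (j+1) → P) (Fin.last j) = x := Fin.snoc_last (α := fun _ => P) _ _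
          refine Sigma.ext (Subtype.ext h1) ?_
          refine (Subtype.heq_iff_coe_eq fun y => ?_).mpr h2
          simp only [h1] }
    rw [Nat.card_congr e, Nat.card_sigma, Finset.sum_congr rfl (g := fun _ => p ^ n - p ^ (n - r + j))]
    · rw [Finset.sum_const, Finset.card_univ, ← Nat.card_eq_fintype_card, ih (by omega), smul_eq_mul,
        Finset.prod_range_succ]
      have e1 : p ^ n - p ^ (n - r + j) = p ^ (n - r) * (p ^ r - p ^ j) := by
        rw [Nat.mul_sub, ← pow_add, ← pow_add, Nat.sub_add_cancel hrn]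
      rw [e1, Nat.mul_succ, pow_add]
      ring
    · intro t _
      rw [Nat.card_eq_fintype_card, Fintype.card_subtype_compl, ← Nat.card_eq_fintype_card, hP,
        ← Nat.card_eq_fintype_card]
      congr 1
      rw [pow_add, ← hF, mul_comm]
      exact t.2

theorem closure_eq_top_iff (hP : Nat.card P = p ^ n) (hr : (frattini P).index = p ^ r) (t : Fin r → P) :
    Subgroup.closure (Set.range t) = ⊤ ↔ Indep p t := by
  obtain ⟨hrn, hF⟩ := card_frattini hP hr
  unfold Indep
  rw [hF, ← pow_add, Nat.add_sub_cancel' hrn, ← hP, Subgroup.card_eq_iff_eq_top]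
  exact ⟨fun h => by rw [spanT, h]; simp, fun h => frattini_nongenerating h⟩

theorem exists_basis (hP : Nat.card P = p ^ n) (hr : (frattini P).index = p ^ r) :
    ∃ t : Fin r → P, Subgroup.closure (Set.range t) = ⊤ := by
  obtain ⟨S, hS, hc⟩ := CfsgLib.PGroups.exists_finset_closure_eq_top (IsPGroup.of_card (p := p) hP)
  rw [hr] at hc
  have hc' : S.card = r := Nat.pow_right_injective (Fact.out : p.Prime).two_le hc
  refine ⟨fun i => (S.equivFinOfCardEq hc').symm i, ?_⟩
  rw [← hS]
  congr 1
  ext x
  constructor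
  · rintro ⟨i, rfl⟩; exact ((S.equivFinOfCardEq hc').symm i).2
  · intro hx; exact ⟨S.equivFinOfCardEq hc' ⟨x, hx⟩, by simp⟩

theorem eq_one_of_fix {t : Fin r → P} (ht : Subgroup.closure (Set.range t) = ⊤) {α : MulAut P}
    (h : ∀ i, α (t i) = t i) : α = 1 := by
  ext x
  have hle : Subgroup.closure (Set.range t) ≤ α.toMonoidHom.eqLocus (MonoidHom.id P) :=
    (Subgroup.closure_le _).mpr (by rintro _ ⟨i, rfl⟩; exact h i)
  exact hle (ht ▸ Subgroup.mem_top x)

/-- Burnside: automorphisms trivial on the Frattini quotient. -/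
theorem card_dvd_of_trivial_on_frattini (hP : Nat.card P = p ^ n) (hr : (frattini P).index = p ^ r)
    (A : Subgroup (MulAut P)) (hA : ∀ α ∈ A, ∀ x : P, α x * x⁻¹ ∈ frattini P) :
    Nat.card A ∣ p ^ (r * (n - r)) := by
  obtain ⟨s, hs⟩ := exists_basis hP hr
  let X := {t : Fin r → P // ∀ i, t i * (s i)⁻¹ ∈ frattini P}
  have hX : Nat.card X = p ^ (r * (n - r)) := by
    have e : X ≃ (Fin r → frattini P) :=
      { toFun := fun t i => ⟨t.1 i * (s i)⁻¹, t.2 i⟩
        invFun := fun f => ⟨fun i => (f i : P) * s i, fun i => by simpa using (f i).2⟩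
        left_inv := fun t => Subtype.ext (funext fun i => by simp)
        right_inv := fun f => funext fun i => Subtype.ext (by simp) }
    rw [Nat.card_congr e, Nat.card_fun, (card_frattini hP hr).2, Nat.card_fin, ← pow_mul, mul_comm]
  rw [← hX]
  letI : MulAction A X :=
    { smul := fun α t => ⟨fun i => (α : MulAut P) (t.1 i), fun i => by
        have := (frattini P).mul_mem (hA _ α.2 (t.1 i)) (t.2 i)
        simpa [mul_assoc] using this⟩
      one_smul := fun t => rfl
      mul_smul := fun α β t => rfl }
  have hfree : ∀ x : X, MulAction.stabilizer A x = ⊥ := by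
    intro x
    refine eq_bot_iff.mpr fun α hα => ?_
    have hgen : Subgroup.closure (Set.range x.1) = ⊤ := by
      refine frattini_nongenerating (eq_top_iff.mpr (hs ▸ (Subgroup.closure_le _).mpr ?_))
      rintro _ ⟨i, rfl⟩
      have : s i = (x.1 i * (s i)⁻¹)⁻¹ * x.1 i := by group
      rw [SetLike.mem_coe, this]
      exact Subgroup.mul_mem _ (Subgroup.mem_sup_right ((frattini P).inv_mem (x.2 i)))
        (Subgroup.mem_sup_left (Subgroup.subset_closure ⟨i, rfl⟩))
    exact Subtype.ext (eq_one_of_fix hgen fun i => congrFun (congrArg Subtype.val hα) i)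
  rw [Nat.card_congr (MulAction.selfEquivOrbitsQuotientProd hfree), Nat.card_prod]
  exact dvd_mul_left _ _

/-- Burnside: the order of the automorphism group. -/
theorem card_mulAut_dvd (hP : Nat.card P = p ^ n) (hr : (frattini P).index = p ^ r) :
    Nat.card (MulAut P) ∣ p ^ (r * (n - r)) * ∏ i ∈ range r, (p ^ r - p ^ i) := by
  rw [mul_comm r, ← card_indep hP hr r le_rfl]
  letI : MulAction (MulAut P) {t : Fin r → P // Indep p t} :=
    { smul := fun α t => ⟨fun i => α (t.1 i), by
        rw [← closure_eq_top_iff hP hr, eq_top_iff]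
        intro x _
        have hle : Subgroup.closure (Set.range t.1) ≤
            (Subgroup.closure (Set.range fun i => α (t.1 i))).comap α.toMonoidHom :=
          (Subgroup.closure_le _).mpr (by rintro _ ⟨i, rfl⟩; exact Subgroup.subset_closure ⟨i, rfl⟩)
        have := hle (show α.symm x ∈ _ by rw [(closure_eq_top_iff hP hr _).mpr t.2]; trivial)
        simpa using this⟩
      one_smul := fun t => rfl
      mul_smul := fun α β t => rfl }
  have hfree : ∀ x : {t : Fin r → P // Indep p t}, MulAction.stabilizer (MulAut P) x = ⊥ := fun x =>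
    eq_bot_iff.mpr fun α hα => Subgroup.mem_bot.mpr
      (eq_one_of_fix ((closure_eq_top_iff hP hr _).mpr x.2) fun i => congrFun (congrArg Subtype.val hα) i)
  rw [Nat.card_congr (MulAction.selfEquivOrbitsQuotientProd hfree), Nat.card_prod]
  exact dvd_mul_left _ _

end CfsgLib.NormalComplements.AutCount
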